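import Cfsg.Agent.Lib.Solv.Two
import Cfsg.Agent.Lib.PGroup.DihedralQuaternion

/-!
# Elementary abelian `2`-groups acting on groups of odd order: eigen-elements
-/

set_option autoImplicit false

namespace Cfsg.Lib
open Subgroup Cfsg
open scoped commutatorElement

variable {G : Type*} [Group G] [Finite G]

/-- A group of odd order acted on by an elementary abelian `2`-group `A` is generated by the elements
that every element of `A` centralizes or inverts. -/
theorem CoprimeAct.le_of_eigen {A K X : Subgroup G} (h : CoprimeAct A K)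
    (hA : IsElementaryAbelian 2 A)
    (hX : ∀ x ∈ K, (∀ a ∈ A, a * x * a⁻¹ = x ∨ a * x * a⁻¹ = x⁻¹) → x ∈ X) : K ≤ X := by
  have hC : K ⊓ centralizer (A : Set G) ≤ X := fun x hx => hX x (mem_inf.mp hx).1 fun a ha =>
    Or.inl (mul_inv_eq_iff_eq_mul.mpr ((mem_inf.mp hx).2 a ha))
  by_cases hne : A = ⊥
  · subst hne
    exact (le_inf le_rfl (le_centralizer_iff.mp bot_le)).trans hC
  refine h.le_of_hyperplane hA hne fun B hB hi => ?_
  have h1 := h.centralizer_act (le_normalizer_of_le_of_comm hA.1 hB)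
  rw [← h1.commutator_sup_centralizer]
  refine sup_le (Subgroup.commutator_le.mpr fun y hy b hb => ?_)
    ((inf_le_inf_right _ inf_le_left).trans hC)
  have hx := h1.commutator_le (commutator_mem_commutator hy hb)
  refine hX _ (mem_inf.mp hx).1 fun a ha => ?_
  have hb2 : b⁻¹ = b := by rw [inv_eq_iff_mul_eq_one, ← pow_two, hA.2 b hb]
  have hbb : b * b = 1 := by rw [← pow_two, hA.2 b hb]
  by_cases haB : a ∈ B
  · exact Or.inl (mul_inv_eq_iff_eq_mul.mpr ((mem_inf.mp hx).2 a haB))
  by_cases hbB : b ∈ B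
  · left
    rw [commutatorElement_eq_one_iff_mul_comm.mpr ((mem_inf.mp hy).2 b hbB).symm]
    simp
  right
  have hab : a * b ∈ B := (mul_mem_iff_of_index_two (H := B.subgroupOf A) hi
    (a := ⟨a, ha⟩) (b := ⟨b, hb⟩)).mpr (iff_of_false haB hbB)
  have h2 := (mem_inf.mp hx).2 _ hab
  have h3 : b * ⁅y, b⁆ * b⁻¹ = ⁅y, b⁆⁻¹ := by
    rw [commutatorElement_inv, commutatorElement_def, commutatorElement_def, hb2]
    calc b * (y * b * y⁻¹ * b) * b = b * y * b * y⁻¹ * (b * b) := by group
      _ = _ := by rw [hbb, mul_one]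
  calc a * ⁅y, b⁆ * a⁻¹ = a * b * (b * ⁅y, b⁆ * b⁻¹) * (a * b)⁻¹ := by
        rw [show a * b * (b * ⁅y, b⁆ * b⁻¹) * (a * b)⁻¹ =
          a * (b * b) * ⁅y, b⁆ * (b * b)⁻¹ * a⁻¹ by simp only [mul_assoc, mul_inv_rev], hbb]; group
    _ = (a * b * ⁅y, b⁆ * (a * b)⁻¹)⁻¹ := by rw [h3]; generalize ⁅y, b⁆ = c; group
    _ = _ := by rw [h2]; group

/-- An elementary abelian `2`-group acting on a nilpotent group `P` of odd order normalizes a
self-centralizing abelian normal subgroup of `P`. -/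
theorem CoprimeAct.exists_selfCentralizing_of_two {A P : Subgroup G} (h : CoprimeAct A P)
    (hA : IsElementaryAbelian 2 A) (hP : Group.IsNilpotent P) :
    ∃ M : Subgroup G, M ≤ P ∧ IsMulCommutative M ∧ P ≤ normalizer (M : Set G) ∧
      A ≤ normalizer (M : Set G) ∧ P ⊓ centralizer (M : Set G) ≤ M := by
  obtain ⟨M, ⟨h1, h2, h3, h4⟩, hmax⟩ := WellFounded.has_min (wellFounded_gt (α := Subgroup G))
    {M | M ≤ P ∧ IsMulCommutative M ∧ P ≤ normalizer (M : Set G) ∧ A ≤ normalizer (M : Set G)}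
    ⟨⊥, bot_le, inferInstance, le_normalizer_of_normal, le_normalizer_of_normal⟩
  refine ⟨M, h1, h2, h3, h4, ?_⟩
  by_contra hne
  obtain ⟨N, ⟨g1, g2, g3, g4⟩, hmin⟩ := WellFounded.has_min (wellFounded_lt (α := Subgroup G))
    {N | M < N ∧ N ≤ P ⊓ centralizer (M : Set G) ∧ P ≤ normalizer (N : Set G) ∧
      A ≤ normalizer (N : Set G)}
    ⟨P ⊓ centralizer (M : Set G), lt_of_le_not_ge (le_inf h1 (le_centralizer M)) hne, le_rfl,
      le_normalizer_inf le_normalizer (le_normalizer_centralizer h3),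
      le_normalizer_inf h.norm (le_normalizer_centralizer h4)⟩
  have hNP : N ≤ P := g2.trans inf_le_left
  have hc : ⁅N, P⁆ ≤ M := by
    by_contra hc
    have : Group.IsNilpotent ↥(N ⊔ P) := by rwa [sup_eq_right.mpr hNP]
    have hle : ⁅N, P⁆ ⊔ M ≤ N := sup_le (le_normalizer_iff_commutator_le_left.mp g3) g1.le
    exact hmin _ ⟨lt_of_le_of_ne le_sup_right fun e => hc (e ▸ le_sup_left), hle.trans g2,
      le_normalizer_sup (le_normalizer_commutator_right N P) h3,
      le_normalizer_sup (le_normalizer_commutator g4 h.norm) h4⟩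
      (lt_of_le_not_ge hle (pg_not_le_commutator_sup_of_nilpotent g1.not_ge (hNP.trans h3) h3))
  apply g1.not_ge
  refine (h.mono_right hNP g4).le_of_eigen hA fun x hx hxa => ?_
  by_contra hxM
  have hle : zpowers x ⊔ M ≤ N := sup_le (zpowers_le.mpr hx) g1.le
  refine hmax (zpowers x ⊔ M) ⟨hle.trans hNP, ?_, ?_, ?_⟩
    (lt_of_le_of_ne le_sup_right fun e => hxM (e ▸ mem_sup_left (mem_zpowers x)))
  · refine pg_comm_of_zpowers_sup_central (N := M) (x := x) ?_ le_sup_right
      (mem_sup_left (mem_zpowers x)) le_rfl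
    rw [le_centralizer_iff]
    exact sup_le (zpowers_le.mpr (mem_inf.mp (g2 hx)).2) (le_centralizer M)
  · exact Quad.le_normalizer_of_commutator_le (hc.trans le_sup_right) hle
  · refine le_normalizer_sup (fun a ha => pg_mem_normalizer_of_conj_mem ?_) h4
    rintro _ ⟨k, rfl⟩
    simp only
    rw [← conj_zpow]
    rcases hxa a ha with e | e <;> rw [e]
    exacts [zpow_mem (mem_zpowers x) k, zpow_mem (inv_mem (mem_zpowers x)) k]

/-- Dual bases: involutions `b i` generating `B ≤ A` and eigen-elements `x i` of the odd-order group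
`M`, with `b i` inverting `x i` and centralizing the other `x j`. -/
theorem CoprimeAct.exists_dual_eigen {A M : Subgroup G} (h : CoprimeAct A M)
    (hA : IsElementaryAbelian 2 A) (hf : A ⊓ centralizer (M : Set G) = ⊥) (k : ℕ) :
    ∀ B : Subgroup G, B ≤ A → Nat.card B = 2 ^ k → ∃ b x : Fin k → G,
      (∀ i, b i ∈ B ∧ x i ∈ M ∧ b i * x i * (b i)⁻¹ ≠ x i ∧
        ∀ a ∈ A, a * x i * a⁻¹ = x i ∨ a * x i * a⁻¹ = (x i)⁻¹) ∧
      (∀ i j, i ≠ j → b i * x j * (b i)⁻¹ = x j) ∧ ⨆ i, zpowers (b i) = B := by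
  induction k with
  | zero =>
    intro B _ hc
    refine ⟨Fin.elim0, Fin.elim0, fun i => i.elim0, fun i => i.elim0, ?_⟩
    rw [card_eq_one.mp hc, iSup_of_empty]
  | succ k ih =>
    intro B' hB' hc
    have hne : ¬ M ≤ centralizer (B' : Set G) := fun hle =>
      ne_bot_of_pow_le_card hc.ge (le_bot_iff.mp (hf ▸ le_inf hB' (le_centralizer_iff.mp hle)))
    obtain ⟨x₀, hx₀, hxe, hxc⟩ : ∃ x ∈ M, (∀ a ∈ A, a * x * a⁻¹ = x ∨ a * x * a⁻¹ = x⁻¹) ∧
        x ∉ centralizer (B' : Set G) := by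
      by_contra hc
      push Not at hc
      exact hne (h.le_of_eigen hA hc)
    set B := B' ⊓ centralizer {x₀} with hB
    have hmem : ∀ a ∈ B', a ∈ B ↔ a * x₀ * a⁻¹ = x₀ := fun a ha => by
      rw [hB, mem_inf, mem_centralizer_singleton_iff, mul_inv_eq_iff_eq_mul]
      exact and_iff_right ha
    obtain ⟨a₀, ha₀, ha₀'⟩ : ∃ a ∈ B', a ∉ B := by
      by_contra hc
      push Not at hc
      exact hxc fun a ha => (mem_centralizer_singleton_iff.mp (mem_inf.mp (hc a ha)).2)
    have hsup : ∀ a ∈ B', a ∉ B → zpowers a ⊔ B = B' := by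
      intro a ha ha'
      refine le_antisymm (sup_le (zpowers_le.mpr ha) inf_le_left) fun c hc => ?_
      by_cases hcB : c ∈ B
      · exact mem_sup_right hcB
      have e1 := (hxe a (hB' ha)).resolve_left (mt (hmem a ha).mpr ha')
      have e2 := (hxe c (hB' hc)).resolve_left (mt (hmem c hc).mpr hcB)
      have : a⁻¹ * c ∈ B := (hmem _ (mul_mem (inv_mem ha) hc)).mpr (by
        rw [show a⁻¹ * c * x₀ * (a⁻¹ * c)⁻¹ = a⁻¹ * (c * x₀ * c⁻¹) * a by group, e2, ← e1]; group)
      exact mem_of_mem_of_eq (mul_mem (mem_sup_left (mem_zpowers a)) (mem_sup_right this)) (by group)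
    have hBA : B ≤ A := inf_le_left.trans hB'
    have hBc : Nat.card B = 2 ^ k := by
      have := (ea_zpowers_sup (Quad.ea_mono hA hBA) (hA.2 a₀ (hB' ha₀))
        (centralizer_mono hBA (Quad.ea_le_centralizer hA (hB' ha₀))) ha₀').2
      rw [hsup a₀ ha₀ ha₀', hc, pow_succ'] at this
      omega
    obtain ⟨b, x, g1, g2, g3⟩ := ih B hBA hBc
    have key : ∀ s : Finset (Fin k), ∃ a ∈ B', a ∉ B ∧ ∀ i ∈ s, a * x i * a⁻¹ = x i := by
      intro s
      induction s using Finset.induction_on with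
      | empty => exact ⟨a₀, ha₀, ha₀', by simp⟩
      | insert j s hj ihs =>
        obtain ⟨a, q1, q2, q3⟩ := ihs
        rcases (g1 j).2.2.2 a (hB' q1) with e | e
        · exact ⟨a, q1, q2, by simpa [e] using q3⟩
        refine ⟨a * b j, mul_mem q1 (mem_inf.mp (g1 j).1).1,
          fun hm => q2 ((mul_mem_cancel_right (g1 j).1).mp hm), fun i hi => ?_⟩
        rw [show a * b j * x i * (a * b j)⁻¹ = a * (b j * x i * (b j)⁻¹) * a⁻¹ by group]
        rcases Finset.mem_insert.mp hi with rfl | hi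
        · rw [((g1 i).2.2.2 _ (hBA (g1 i).1)).resolve_left (g1 i).2.2.1,
            show a * (x i)⁻¹ * a⁻¹ = (a * x i * a⁻¹)⁻¹ by group, e, inv_inv]
        · rw [g2 j i (fun e => hj (e ▸ hi)), q3 i hi]
    obtain ⟨a, q1, q2, q3⟩ := key Finset.univ
    refine ⟨Fin.cons a b, Fin.cons x₀ x, fun i => ?_, fun i j hij => ?_, ?_⟩
    · induction i using Fin.cases with
      | zero => exact ⟨q1, hx₀, mt (hmem a q1).mpr q2, hxe⟩
      | succ i => exact ⟨(mem_inf.mp (g1 i).1).1, (g1 i).2⟩
    · induction i using Fin.cases with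
      | zero =>
        induction j using Fin.cases with
        | zero => exact absurd rfl hij
        | succ j => exact q3 j (Finset.mem_univ j)
      | succ i =>
        induction j using Fin.cases with
        | zero => exact (hmem _ (mem_inf.mp (g1 i).1).1).mp (g1 i).1
        | succ j => exact g2 i j (fun e => hij (e ▸ rfl))
    · rw [← hsup a q1 q2, ← g3]
      refine le_antisymm (iSup_le fun i => ?_) (sup_le (le_iSup_of_le 0 le_rfl)
        (iSup_le fun i => le_iSup_of_le i.succ le_rfl))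
      induction i using Fin.cases with
      | zero => exact le_sup_left
      | succ i => exact le_sup_of_le_right (le_iSup_of_le i le_rfl)

/-- An involution inverting an element of odd order generates a dihedral group with it. -/
theorem nonempty_mulEquiv_dihedral_sup {b x : G} (hb : orderOf b = 2) (hx : Odd (orderOf x))
    (h : b * x * b⁻¹ = x⁻¹) :
    Nonempty (↥(zpowers b ⊔ zpowers x) ≃* DihedralGroup (orderOf x)) := by
  have hb2 : b ^ 2 = 1 := hb ▸ pow_orderOf_eq_one b
  have hbx : b ∉ zpowers x := fun hm => by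
    have := orderOf_dvd_of_mem_zpowers hm
    rw [hb] at this
    exact (Nat.not_even_iff_odd.mpr hx) (even_iff_two_dvd.mpr this)
  refine pg_nonempty_mulEquiv_dihedral (a := ⟨x, mem_sup_right (mem_zpowers x)⟩)
    (b := ⟨b, mem_sup_left (mem_zpowers b)⟩) (orderOf_mk _ _) ?_ ?_ (Subtype.ext hb2)
    (Subtype.ext h)
  · rw [pg_card_zpowers_sup (p := 2) ?_ hbx (hb2 ▸ one_mem _), Nat.card_zpowers]
    refine pg_mem_normalizer_of_conj_mem ?_
    rintro _ ⟨k, rfl⟩
    simp only
    rw [← conj_zpow, h]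
    exact zpow_mem (inv_mem (mem_zpowers x)) k
  · rintro ⟨k, hk⟩
    exact hbx ⟨k, congrArg Subtype.val hk⟩

end Cfsg.Lib
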