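import Cfsg.Agent.Lib.Solv.Two
import Cfsg.Agent.Lib.Small.Order24

/-!
# Automorphisms of the quaternion group of order 8 and groups of order 48 built on it
-/

set_option autoImplicit false

namespace Cfsg.Lib
open Subgroup Cfsg

/-- The map of `Q₈` sending the two standard generators to `u` and `v`. -/
def q8Fun {H : Type*} [Group H] (u v : H) : QuaternionGroup 2 → H
  | QuaternionGroup.a i => u ^ i.val
  | QuaternionGroup.xa i => v * u ^ i.val

/-- `u`, `v` are the images of the standard generators under an automorphism. -/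
def Q8Good (u v : QuaternionGroup 2) : Prop :=
  Function.Injective (q8Fun u v) ∧ ∀ x y, q8Fun u v (x * y) = q8Fun u v x * q8Fun u v y

instance q8GoodDec (u v : QuaternionGroup 2) : Decidable (Q8Good u v) := by
  unfold Q8Good Function.Injective; infer_instance

theorem q8_aut_eq (α : MulAut (QuaternionGroup 2)) (x : QuaternionGroup 2) :
    α x = q8Fun (α (QuaternionGroup.a 1)) (α (QuaternionGroup.xa 0)) x := by
  have : ∀ x : QuaternionGroup 2, x = q8Fun (QuaternionGroup.a 1) (QuaternionGroup.xa 0) x := by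
    decide +kernel
  conv_lhs => rw [this x]
  cases x <;> simp only [q8Fun, map_mul, map_pow]

theorem q8_aut_good (α : MulAut (QuaternionGroup 2)) :
    Q8Good (α (QuaternionGroup.a 1)) (α (QuaternionGroup.xa 0)) := by
  rw [Q8Good, ← funext (q8_aut_eq α)]
  exact ⟨α.injective, map_mul α⟩

/-- The automorphism with good generator images. -/
noncomputable def q8Aut (u v : QuaternionGroup 2) (h : Q8Good u v) : MulAut (QuaternionGroup 2) :=
  MulEquiv.ofBijective (MonoidHom.mk' (q8Fun u v) h.2) (Finite.injective_iff_bijective.mp h.1)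

theorem q8Aut_apply (u v : QuaternionGroup 2) (h : Q8Good u v) (x : QuaternionGroup 2) :
    q8Aut u v h x = q8Fun u v x := rfl

theorem q8_card_aut_le : Nat.card (MulAut (QuaternionGroup 2)) ≤ 24 := by
  have h1 : Fintype.card {p : QuaternionGroup 2 × QuaternionGroup 2 // Q8Good p.1 p.2} = 24 := by
    decide +kernel
  rw [← h1, ← Nat.card_eq_fintype_card]
  refine Nat.card_le_card_of_injective (fun α => ⟨(α (QuaternionGroup.a 1),
    α (QuaternionGroup.xa 0)), q8_aut_good α⟩) fun α β h => MulEquiv.ext fun x => ?_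
  have h2 := Prod.ext_iff.mp (congrArg Subtype.val h)
  simp only at h2
  rw [q8_aut_eq α, q8_aut_eq β, h2.1, h2.2]

theorem q8_aut_orderOf_ne_six (α : MulAut (QuaternionGroup 2)) : orderOf α ≠ 6 := by
  have h1 : ∀ u v, Q8Good u v → (∀ x, q8Fun u v (q8Fun u v (q8Fun u v x)) = x) ∨
      ∀ x, q8Fun u v (q8Fun u v (q8Fun u v (q8Fun u v x))) = x := by decide +kernel
  intro h
  have h2 := h1 _ _ (q8_aut_good α)
  rw [← funext (q8_aut_eq α)] at h2
  rcases h2 with h2 | h2
  · have : α ^ 3 = 1 := MulEquiv.ext h2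
    rw [← orderOf_dvd_iff_pow_eq_one, h] at this
    omega
  · have : α ^ 4 = 1 := MulEquiv.ext h2
    rw [← orderOf_dvd_iff_pow_eq_one, h] at this
    omega

theorem q8_aut_a_two (α : MulAut (QuaternionGroup 2)) :
    α (QuaternionGroup.a 2) = QuaternionGroup.a 2 := by
  have h1 : ∀ u v, Q8Good u v → q8Fun u v (QuaternionGroup.a 2) = QuaternionGroup.a 2 := by
    decide +kernel
  rw [q8_aut_eq, h1 _ _ (q8_aut_good α)]

/-- An outer automorphism of order two. -/
noncomputable def q8Sigma : MulAut (QuaternionGroup 2) :=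
  q8Aut (QuaternionGroup.xa 2) (QuaternionGroup.a 3) (by decide +kernel)

/-- An automorphism of order three inverted by `q8Sigma`. -/
noncomputable def q8Beta : MulAut (QuaternionGroup 2) :=
  q8Aut (QuaternionGroup.xa 0) (QuaternionGroup.xa 3) (by decide +kernel)

theorem q8Sigma_sq : q8Sigma ^ 2 = 1 := MulEquiv.ext (by
  simp only [pow_two, MulAut.mul_apply, q8Sigma, q8Aut_apply, MulAut.one_apply]; decide +kernel)

theorem q8Beta_cube : q8Beta ^ 3 = 1 := MulEquiv.ext (by
  simp only [pow_succ, pow_zero, one_mul, MulAut.mul_apply, q8Beta, q8Aut_apply, MulAut.one_apply]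
  decide +kernel)

theorem q8Sigma_Beta : q8Sigma * q8Beta * q8Sigma⁻¹ = q8Beta⁻¹ := by
  rw [mul_inv_eq_iff_eq_mul, eq_inv_mul_iff_mul_eq]
  exact MulEquiv.ext (by
    simp only [MulAut.mul_apply, q8Beta, q8Sigma, q8Aut_apply]; decide +kernel)

theorem q8_exists_conj_sigma (σ : MulAut (QuaternionGroup 2)) (h : σ ^ 2 = 1)
    (hn : ∀ q, ∃ x, σ x ≠ q * x * q⁻¹) : ∃ γ : MulAut (QuaternionGroup 2), σ * γ = γ * q8Sigma := by
  have h1 : ∀ u v, Q8Good u v → (∀ x, q8Fun u v (q8Fun u v x) = x) →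
      (∀ q, ∃ x, q8Fun u v x ≠ q * x * q⁻¹) → ∃ u' v', Q8Good u' v' ∧ ∀ x,
        q8Fun u v (q8Fun u' v' x) =
          q8Fun u' v' (q8Fun (QuaternionGroup.xa 2) (QuaternionGroup.a 3) x) := by
    decide +kernel
  have h2 := h1 _ _ (q8_aut_good σ)
  rw [← funext (q8_aut_eq σ)] at h2
  obtain ⟨u, v, h3, h4⟩ := h2 (MulEquiv.ext_iff.mp h) hn
  exact ⟨q8Aut u v h3, MulEquiv.ext h4⟩

/-- The homomorphism from the dihedral group of order six given by `s` and `d`. -/
def dih3Lift {H : Type*} [Group H] (b a : H) (hb2 : b ^ 2 = 1) (ha : orderOf a = 3)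
    (hab : b * a * b⁻¹ = a⁻¹) : DihedralGroup 3 →* H :=
  MonoidHom.mk' (fun x => match x with
      | .r i => a ^ i.val
      | .sr i => b * a ^ i.val) (by
      rintro (i | i) (j | j)
      · exact pg_pow_val_add ha i j
      · simp only [DihedralGroup.r_mul_sr]
        rw [pg_pow_val_sub ha, ← mul_assoc, ← mul_assoc, pg_pow_mul_of_conj_inv hab]
      · simp only [DihedralGroup.sr_mul_r]
        rw [pg_pow_val_add ha, mul_assoc]
      · simp only [DihedralGroup.sr_mul_sr]
        rw [pg_pow_val_sub ha, mul_assoc, ← mul_assoc (a ^ i.val), pg_pow_mul_of_conj_inv hab,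
          ← mul_assoc, ← mul_assoc, ← pow_two, hb2, one_mul])

theorem q8Beta_orderOf : orderOf q8Beta = 3 :=
  have : Fact (Nat.Prime 3) := ⟨by norm_num⟩
  orderOf_eq_prime q8Beta_cube fun h => by
    have := MulEquiv.ext_iff.mp h (QuaternionGroup.a 1)
    rw [q8Beta, q8Aut_apply] at this
    exact absurd this (by decide)

/-- The split extension of `Q₈` by the dihedral group of order six. -/
abbrev Q8Model := QuaternionGroup 2 ⋊[dih3Lift q8Sigma q8Beta q8Sigma_sq q8Beta_orderOf q8Sigma_Beta]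
  DihedralGroup 3

theorem q8Model_equiv {H : Type*} [Group H] [Finite H] (hH : Nat.card H = 48)
    (ι : QuaternionGroup 2 →* H) (hι : Function.Injective ι) {s d : H} (hs : s ^ 2 = 1)
    (hd : orderOf d = 3) (hsd : s * d * s⁻¹ = d⁻¹) (h1 : ∀ x, ι (q8Sigma x) = s * ι x * s⁻¹)
    (h2 : ∀ x, ι (q8Beta x) = d * ι x * d⁻¹) : Nonempty (Q8Model ≃* H) := by
  have h3 : ∀ (n : ℕ) x, ι ((q8Beta ^ n) x) = d ^ n * ι x * (d ^ n)⁻¹ := by
    intro n x
    induction n with
    | zero => simp
    | succ n ih => rw [pow_succ', MulAut.mul_apply, h2, ih, pow_succ']; group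
  have h4 : ∀ g x, ι (dih3Lift q8Sigma q8Beta q8Sigma_sq q8Beta_orderOf q8Sigma_Beta g x) =
      dih3Lift s d hs hd hsd g * ι x * (dih3Lift s d hs hd hsd g)⁻¹ := by
    rintro (i | i) x
    · exact h3 i.val x
    · change ι (q8Sigma ((q8Beta ^ i.val) x)) = s * d ^ i.val * ι x * (s * d ^ i.val)⁻¹
      rw [h1, h3]; group
  let f : Q8Model →* H := SemidirectProduct.lift ι (dih3Lift s d hs hd hsd)
    fun g => MonoidHom.ext (h4 g)
  have hf : Function.Injective f := by
    rw [injective_iff_map_eq_one]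
    rintro ⟨q, k⟩ h
    change ι q * dih3Lift s d hs hd hsd k = 1 at h
    have h5 : ∀ x, dih3Lift q8Sigma q8Beta q8Sigma_sq q8Beta_orderOf q8Sigma_Beta k x =
        q⁻¹ * x * q := fun x => hι (by
      rw [h4, eq_inv_of_mul_eq_one_right h]; simp)
    have h6 : k = 1 := by
      clear h
      rcases k with i | i <;> fin_cases i
      · rfl
      all_goals
        exfalso
        revert q
        simp only [dih3Lift, MonoidHom.mk'_apply, Fin.zero_eta, Fin.mk_one, Fin.reduceFinMk]
        intro q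
        simp only [Fin.isValue, ZMod.val, Nat.reduceAdd, Fin.coe_ofNat_eq_mod, Nat.reduceMod,
          pow_succ, pow_zero, one_mul, mul_one, MulAut.mul_apply, q8Sigma, q8Beta, q8Aut_apply]
        revert q
        decide +kernel
    subst h6
    rw [map_one, mul_one, ← map_one ι] at h
    rw [hι h]; rfl
  exact ⟨MulEquiv.ofBijective f (hf.bijective_of_nat_card_le (by
    rw [hH, SemidirectProduct.card, DihedralGroup.nat_card, Nat.card_eq_fintype_card,
      QuaternionGroup.card]))⟩

theorem q8Model_equiv_gl : Nonempty (Q8Model ≃* GL (Fin 2) (ZMod 3)) := by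
  let u : GL (Fin 2) (ZMod 3) := ⟨!![0, 2; 1, 0], !![0, 1; 2, 0], by decide, by decide⟩
  let v : GL (Fin 2) (ZMod 3) := ⟨!![1, 1; 1, 2], !![2, 2; 2, 1], by decide, by decide⟩
  let s : GL (Fin 2) (ZMod 3) := ⟨!![1, 2; 0, 2], !![1, 2; 0, 2], by decide, by decide⟩
  let d : GL (Fin 2) (ZMod 3) := ⟨!![1, 1; 0, 1], !![1, 2; 0, 1], by decide, by decide⟩
  refine q8Model_equiv (s := s) (d := d) ?_ (MonoidHom.mk' (q8Fun u v) (by decide +kernel))
    (show ∀ x y, q8Fun u v x = q8Fun u v y → x = y by decide +kernel) (by decide +kernel)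
    (orderOf_eq_prime (hp := ⟨by norm_num⟩) (by decide +kernel) (by decide +kernel)) (by decide +kernel) ?_ ?_
  · have : Fact (Nat.Prime 3) := ⟨by norm_num⟩
    rw [Matrix.card_GL_field]; simp [Fin.prod_univ_two]
  · simp only [q8Sigma, q8Aut_apply, MonoidHom.mk'_apply]; decide +kernel
  · simp only [q8Beta, q8Aut_apply, MonoidHom.mk'_apply]; decide +kernel

/-- A group of characteristic `2` whose largest normal `2`-subgroup is generalized quaternion of order
at least `16` is a `2`-group. -/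
theorem isPGroup_of_charTwo_of_pCore_quaternion {G : Type*} [Group G] [Finite G]
    (h : centralizer (pCore 2 G : Set G) ≤ pCore 2 G) {n : ℕ}
    (hn : 2 ≤ n) (e : pCore 2 G ≃* QuaternionGroup (2 ^ n)) : IsPGroup 2 G := by
  set Q := pCore 2 G with hQ
  set a : G := ((e.symm (QuaternionGroup.a 1) : Q) : G) with ha
  have haQ : a ∈ Q := (e.symm (QuaternionGroup.a 1)).2
  have hao : orderOf a = 2 * 2 ^ n := by
    rw [ha, orderOf_coe, MulEquiv.orderOf_eq, QuaternionGroup.orderOf_a_one]
  have hcase : ∀ y ∈ Q, y ∈ zpowers a ∨ (y ^ 4 = 1 ∧ y * a * y⁻¹ = a⁻¹) := by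
    intro y hy
    obtain ⟨q, hq⟩ := e.symm.surjective ⟨y, hy⟩
    have hq' : y = (e.symm q : Q) := by rw [hq]
    rcases q with i | i
    · left
      refine ⟨(i.val : ℕ), ?_⟩
      simp only [zpow_natCast]
      rw [hq', ha, ← coe_pow, ← map_pow, QuaternionGroup.a_one_pow, ZMod.natCast_zmod_val]
    · right
      constructor
      · rw [hq', ← coe_pow, ← map_pow, QuaternionGroup.xa_pow_four, map_one, coe_one]
      · rw [mul_inv_eq_iff_eq_mul, eq_inv_mul_iff_mul_eq, hq', ha, ← coe_mul, ← coe_mul,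
          ← map_mul, ← map_mul]
        simp
  have ha4 : a ^ 4 ≠ 1 := by
    intro h1
    rw [← orderOf_dvd_iff_pow_eq_one, hao] at h1
    have := Nat.le_of_dvd (by norm_num) h1
    have := Nat.pow_le_pow_right (show 0 < 2 by norm_num) hn
    omega
  refine isPGroup_of_charP_of_forall h fun g hg => ?_
  have hgC : g ∈ normalizer (zpowers a : Set G) := by
    refine pg_mem_normalizer_of_conj_mem ?_
    have : zpowers a ≤ (zpowers a).comap (MulAut.conj g).toMonoidHom := by
      refine zpowers_le.mpr ((hcase _ ((pCore_normal 2 G).conj_mem a haQ g)).resolve_right ?_)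
      rintro ⟨h1, -⟩
      rw [conj_pow] at h1
      exact ha4 (by simpa using h1)
    exact fun x hx => this hx
  have hle : zpowers a ≤ Q := zpowers_le.mpr haQ
  have h1 := mem_centralizer_of_odd_of_isCyclic (isPGroup_pCore.to_le hle) inferInstance hgC hg
  have hact : CoprimeAct (zpowers g) Q := CoprimeAct.of_isPGroup_right isPGroup_pCore
    (by rw [Nat.card_zpowers]; exact (Nat.Prime.coprime_iff_not_dvd Nat.prime_two).mp hg.symm)
    le_normalizer_of_normal
  have h2 := hact.le_centralizer_of_nilpotent isPGroup_pCore.isNilpotent (U := zpowers a) hle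
    (le_centralizer_iff.mp (zpowers_le.mpr h1)) (by
      intro y hy
      refine (hcase y (mem_inf.mp hy).1).resolve_right ?_
      rintro ⟨-, h3⟩
      rw [← (mem_inf.mp hy).2 _ (mem_zpowers a), mul_inv_cancel_right,
        eq_inv_iff_mul_eq_one] at h3
      apply ha4
      rw [show a ^ 4 = (a * a) ^ 2 by rw [← pow_two, ← pow_mul], h3, one_pow])
  exact le_centralizer_iff.mp h2 (mem_zpowers g)

/-- A group of characteristic `2` with `O₂ ≅ Q₈` and non-normal Sylow `2`-subgroups is one of the two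
double covers of `S₄`. -/
theorem gl_or_binOct_of_pCore_q8 {H : Type*} [Group H] [Finite H]
    (h : centralizer (pCore 2 H : Set H) ≤ pCore 2 H) (e : pCore 2 H ≃* QuaternionGroup 2)
    (hn : ∀ P : Sylow 2 H, ¬ (P : Subgroup H).Normal) :
    Nonempty (H ≃* GL (Fin 2) (ZMod 3)) ∨ (Nat.card H = 48 ∧ Nat.card (center H) = 2 ∧
      Nonempty (H ⧸ center H ≃* Equiv.Perm (Fin 4)) ∧
      ∀ P : Sylow 2 H, Nonempty ((P : Subgroup H) ≃* QuaternionGroup 4)) := by
  set Q := pCore 2 H with hQ
  have : Q.Normal := pCore_normal 2 H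
  let ι : QuaternionGroup 2 →* H := Q.subtype.comp e.symm.toMonoidHom
  have hι : Function.Injective ι := Q.subtype_injective.comp e.symm.injective
  have hιQ : ∀ y ∈ Q, ∃ x, ι x = y := fun y hy => ⟨e ⟨y, hy⟩, by simp [ι]⟩
  let ρ : H →* MulAut (QuaternionGroup 2) := (MulAut.congr e).toMonoidHom.comp MulAut.conjNormal
  have hρ : ∀ g x, ι (ρ g x) = g * ι x * g⁻¹ := fun g x => by simp [ι, ρ]
  set z := ι (QuaternionGroup.a 2) with hz
  have hzc : z ∈ center H := mem_center_iff.mpr fun g => by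
    rw [← mul_inv_eq_iff_eq_mul, ← hρ, q8_aut_a_two]
  have hz2 : orderOf z = 2 := by
    rw [hz, orderOf_injective ι hι]
    exact orderOf_eq_prime (by decide) (by decide)
  have hker : ρ.ker = zpowers z := by
    refine le_antisymm (fun g hg => ?_) (zpowers_le.mpr (MulEquiv.ext fun x => hι ?_))
    · have h1 : ∀ x, ι x = g * ι x * g⁻¹ := fun x => by rw [← hρ, MonoidHom.mem_ker.mp hg]; rfl
      obtain ⟨y, rfl⟩ := hιQ g (h fun q hq => by
        obtain ⟨x, rfl⟩ := hιQ q hq
        exact (mul_inv_eq_iff_eq_mul.mp (h1 x).symm).symm)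
      have h2 : ∀ y : QuaternionGroup 2, (∀ x, x = y * x * y⁻¹) → y = 1 ∨ y = .a 2 := by decide
      rcases h2 y fun x => hι (by rw [map_mul, map_mul, map_inv]; exact h1 x) with rfl | rfl
      exacts [by rw [map_one]; exact one_mem _, mem_zpowers _]
    · rw [hρ, ← mem_center_iff.mp hzc, mul_inv_cancel_right]; rfl
  have hZ : center H = ρ.ker := le_antisymm (fun g hg => MulEquiv.ext fun x => hι (by
    rw [hρ, ← mem_center_iff.mp hg, mul_inv_cancel_right]; rfl)) (hker ▸ zpowers_le.mpr hzc)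
  have hkc : Nat.card ρ.ker = 2 := by rw [hker, Nat.card_zpowers, hz2]
  have hQc : Nat.card Q = 8 := by
    rw [Nat.card_congr e.toEquiv, Nat.card_eq_fintype_card, QuaternionGroup.card]
  have hr : Nat.card H = 2 * Nat.card ρ.range := by
    rw [← index_ker, ← ρ.ker.card_mul_index, hkc]
  have hrle := (card_le_card_group ρ.range).trans q8_card_aut_le
  have hH : Nat.card H = 48 := by
    obtain ⟨P⟩ : Nonempty (Sylow 2 H) := inferInstance
    have h1 := Q.card_mul_index
    have h2 : 2 ∣ Q.index := by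
      by_contra hc
      exact hn P (sylow_eq_of_le_of_not_dvd_index P
        (IsPGroup.le_sylow_of_normal isPGroup_pCore P) hc ▸ this)
    have h3 : ¬ IsPGroup 2 H := fun hc => hn P (by
      rw [P.is_maximal' (hc.to_subgroup ⊤) le_top |>.symm]; infer_instance)
    have h4 : Nat.card H ≠ 16 := fun hc => h3 (.of_card (n := 4) hc)
    have h5 : Nat.card H ≠ 32 := fun hc => h3 (.of_card (n := 5) hc)
    have := Nat.card_pos (α := H)
    rw [hQc] at h1
    omega
  have hA : Nat.card (MulAut (QuaternionGroup 2)) = 24 :=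
    le_antisymm q8_card_aut_le (le_trans (by omega) (card_le_card_group ρ.range))
  have hsurj : Function.Surjective ρ := by
    rw [← MonoidHom.range_eq_top, ← card_eq_iff_eq_top]; omega
  by_cases hs : ∃ s : H, s ^ 2 = 1 ∧ s ∉ Q
  · left
    obtain ⟨s, hs, hsQ⟩ := hs
    obtain ⟨γ, hγ⟩ := q8_exists_conj_sigma (ρ s) (by rw [← map_pow, hs, map_one]) fun q => by
      by_contra hc
      push Not at hc
      have h1 : (ι q)⁻¹ * s ∈ ρ.ker := MulEquiv.ext fun x => hι (by
        rw [hρ, show (ι q)⁻¹ * s * ι x * ((ι q)⁻¹ * s)⁻¹ = (ι q)⁻¹ * (s * ι x * s⁻¹) * ι q by group,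
          ← hρ, hc]; simp [mul_assoc])
      have h2 : ρ.ker ≤ Q := hker ▸ zpowers_le.mpr (e.symm (QuaternionGroup.a 2)).2
      exact hsQ ((mul_mem_cancel_left (inv_mem (e.symm q).2)).mp (h2 h1))
    obtain ⟨d₀, hd₀⟩ := hsurj (γ * q8Beta * γ⁻¹)
    have hb4 : q8Beta ^ 4 = q8Beta := by rw [pow_succ, q8Beta_cube, one_mul]
    have hd : ρ (d₀ ^ 4) = γ * q8Beta * γ⁻¹ := by rw [map_pow, hd₀, conj_pow, hb4]
    have hsq : ∀ c ∈ ρ.ker, c ^ 2 = 1 := fun c hc => by
      rw [← orderOf_dvd_iff_pow_eq_one, ← hkc]; exact Subgroup.orderOf_dvd_natCard _ hc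
    have hd3 : (d₀ ^ 4) ^ 3 = 1 := by
      have : d₀ ^ 3 ∈ ρ.ker := by
        rw [MonoidHom.mem_ker, map_pow, hd₀, conj_pow, q8Beta_cube]; group
      rw [show (d₀ ^ 4) ^ 3 = ((d₀ ^ 3) ^ 2) ^ 2 by simp only [← pow_mul], hsq _ this, one_pow]
    generalize d₀ ^ 4 = d at hd hd3
    have hσ : ρ s = γ * q8Sigma * γ⁻¹ := by rw [← hγ, mul_inv_cancel_right]
    have hdo : orderOf d = 3 := orderOf_eq_prime (hp := ⟨by norm_num⟩) hd3 fun hc => by
      have := q8Beta_orderOf
      rw [hc, map_one, eq_comm, conj_eq_one_iff] at hd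
      rw [hd, orderOf_one] at this; omega
    have hsd : s * d * s⁻¹ = d⁻¹ := by
      have h1 : s * d * s⁻¹ * d ∈ ρ.ker := by
        rw [MonoidHom.mem_ker, map_mul, map_mul, map_mul, map_inv, hd, hσ,
          show γ * q8Sigma * γ⁻¹ * (γ * q8Beta * γ⁻¹) * (γ * q8Sigma * γ⁻¹)⁻¹ * (γ * q8Beta * γ⁻¹)
            = γ * (q8Sigma * q8Beta * q8Sigma⁻¹ * q8Beta) * γ⁻¹ by group, q8Sigma_Beta]
        group
      have h2 := hsq _ h1
      have h3 : Commute (s * d * s⁻¹ * d) d⁻¹ := (mem_center_iff.mp (hZ ▸ h1) d⁻¹).symm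
      have h4 : (s * d * s⁻¹ * d) ^ 3 = 1 := by
        have := h3.mul_pow 3
        rwa [mul_inv_cancel_right, conj_pow, inv_pow, hd3, mul_one, mul_inv_cancel, inv_one,
          mul_one, eq_comm] at this
      rw [pow_succ, h2, one_mul] at h4
      exact eq_inv_of_mul_eq_one_left h4
    obtain ⟨f⟩ := q8Model_equiv hH (ι.comp γ.toMonoidHom) (hι.comp γ.injective) hs hdo hsd
      (fun x => by
        change ι (γ (q8Sigma x)) = s * ι (γ x) * s⁻¹
        rw [← hρ, ← MulAut.mul_apply, ← hγ]; rfl)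
      (fun x => by
        change ι (γ (q8Beta x)) = d * ι (γ x) * d⁻¹
        rw [← hρ, hd]; simp)
    obtain ⟨f'⟩ := q8Model_equiv_gl
    exact ⟨f.symm.trans f'⟩
  right
  obtain ⟨f⟩ := sm_card_24_iso hA q8_aut_orderOf_ne_six
  refine ⟨hH, hZ ▸ hkc, ⟨(QuotientGroup.quotientMulEquivOfEq hZ).trans
    ((QuotientGroup.quotientKerEquivOfSurjective ρ hsurj).trans f)⟩, fun P => ?_⟩
  have hu : ∀ x : H, orderOf x = 2 → x = z := fun x hx => by
    have h1 : x ^ 2 = 1 := hx ▸ pow_orderOf_eq_one x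
    obtain ⟨y, rfl⟩ := hιQ x (by by_contra hc; exact hs ⟨x, h1, hc⟩)
    have h2 : ∀ y : QuaternionGroup 2, y ^ 2 = 1 → y = 1 ∨ y = .a 2 := by decide
    rcases h2 y (hι (by rw [map_pow, h1, map_one])) with rfl | rfl
    · simp at hx
    · rfl
  have hP : Nat.card P = 16 := by
    rw [P.card_eq_multiplicity, hH, show 48 = 2 ^ 4 * 3 by norm_num,
      Nat.factorization_mul_of_coprime (by norm_num), Nat.Prime.factorization_pow Nat.prime_two,
      Nat.Prime.factorization (by norm_num)]
    simp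
  rcases pg_isCyclic_or_quaternion_of_unique_involution P.isPGroup' (fun x y hx hy => Subtype.ext
    ((hu x (by rw [orderOf_coe, hx])).trans (hu y (by rw [orderOf_coe, hy])).symm)) with hc | ⟨n, ⟨g⟩⟩
  · exfalso
    have hle : Q ≤ P := IsPGroup.le_sylow_of_normal isPGroup_pCore P
    have : IsCyclic Q := Subgroup.isCyclic_of_le hle
    have : IsCyclic (QuaternionGroup 2) := isCyclic_of_surjective e e.surjective
    exact absurd (IsCyclic.isMulCommutative.is_comm.comm (QuaternionGroup.a 1 : QuaternionGroup 2)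
      (QuaternionGroup.xa 0)) (by decide)
  · have h1 := Nat.card_congr g.toEquiv
    rw [hP, Nat.card_eq_fintype_card, QuaternionGroup.card] at h1
    have : n = 1 := by
      have : 2 ^ (n + 1) = 2 ^ 2 := by omega
      have := Nat.pow_right_injective le_rfl this
      omega
    subst this
    exact ⟨g⟩

end Cfsg.Lib
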